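import Groth.Agent.GUField.Invariant
import Groth.Agent.S9810

/-!
Branches as maximal ideals of the normalised components, and their behaviour under flat maps with
purely inseparable residue extension.
-/

set_option autoImplicit false
set_option linter.style.haveILetI false

universe u

open IsLocalRing TensorProduct

namespace Groth.Agent.GUField

/-- The primes of the normalised components over the closed point. -/
def brs (A : Type u) [CommRing A] [IsLocalRing A] : Type u :=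
  Σ P : minimalPrimes A, {Q : PrimeSpectrum (nrm A P.1) // Q.asIdeal.comap (nrmMap A P.1) = maximalIdeal A}

theorem numBranches_domain (A : Type u) [CommRing A] [IsLocalRing A] [IsDomain A] :
    Brnch.numBranches A = ENat.card {Q : PrimeSpectrum (integralClosure A (FractionRing A)) //
      Q.asIdeal.comap (algebraMap A (integralClosure A (FractionRing A))) = maximalIdeal A} := by
  haveI : IsLocalization.AtPrime A (maximalIdeal A) :=
    IsLocalization.self fun x hx => not_not.1 fun h => hx ((mem_maximalIdeal x).2 h)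
  exact (BranchNorm.branches_eq A (maximalIdeal A) A (FractionRing A)
    (integralClosure A (FractionRing A)) AlgEquiv.refl).1

theorem comap_mk_maximalIdeal {A : Type u} [CommRing A] [IsLocalRing A] (P : Ideal A) [IsLocalRing (A ⧸ P)] :
    (maximalIdeal (A ⧸ P)).comap (Ideal.Quotient.mk P) = maximalIdeal A := by
  haveI : IsLocalHom (Ideal.Quotient.mk P) := .of_surjective _ Ideal.Quotient.mk_surjective
  ext a
  rw [Ideal.mem_comap, mem_maximalIdeal, mem_maximalIdeal, mem_nonunits_iff, mem_nonunits_iff]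
  exact ⟨fun h hu => h (hu.map _), fun h hu => h (IsUnit.of_map (Ideal.Quotient.mk P) a hu)⟩

theorem nonempty_brs (A : Type u) [CommRing A] [IsLocalRing A] (P : Ideal A) [P.IsPrime] :
    Nonempty {Q : PrimeSpectrum (nrm A P) // Q.asIdeal.comap (nrmMap A P) = maximalIdeal A} := by
  letI := (nrmMap A P).toAlgebra
  haveI : Algebra.IsIntegral A (nrm A P) := algebraMap_isIntegral_iff.1 (nrmMap_isIntegral A P)
  obtain ⟨Q, -, hQ, hQp⟩ := Ideal.exists_ideal_over_prime_of_isIntegral (maximalIdeal A) (⊥ : Ideal (nrm A P)) (by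
    rw [← RingHom.ker_eq_comap_bot]
    exact (ker_nrmMap A P).le.trans (le_maximalIdeal ‹P.IsPrime›.ne_top))
  exact ⟨⟨⟨Q, hQ⟩, hQp⟩⟩

theorem numBranches_eq_card_brs (A : Type u) [CommRing A] [IsLocalRing A] :
    Brnch.numBranches A = ENat.card (brs A) := by
  classical
  by_cases hfin : (minimalPrimes A).Finite
  · haveI := hfin.fintype
    rw [S9810.result A hfin, finsum_eq_sum_of_fintype, brs, Hensel.eNat_card_sigma]
    refine Finset.sum_congr rfl fun P _ => ?_
    haveI := P.2.1.1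
    haveI : IsLocalRing (A ⧸ P.1) := .of_surjective' _ Ideal.Quotient.mk_surjective
    rw [numBranches_domain (A ⧸ P.1)]
    refine ENat.card_congr (Equiv.subtypeEquivRight fun Q => ?_)
    rw [nrmMap, ← Ideal.comap_comap]
    constructor
    · intro h
      rw [h, comap_mk_maximalIdeal]
    · intro h
      rw [← comap_mk_maximalIdeal P.1] at h
      exact Ideal.comap_injective_of_surjective _ Ideal.Quotient.mk_surjective h
  · haveI : Infinite (minimalPrimes A) := Set.infinite_coe_iff.2 hfin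
    have hne : ∀ P : minimalPrimes A,
        Nonempty {Q : PrimeSpectrum (nrm A P.1) // Q.asIdeal.comap (nrmMap A P.1) = maximalIdeal A} := fun P =>
      haveI := P.2.1.1
      nonempty_brs A P.1
    haveI : Infinite (brs A) := Infinite.of_injective (fun P : minimalPrimes A => (⟨P, (hne P).some⟩ : brs A))
      fun P P' h => congrArg Sigma.fst h
    rw [ENat.card_eq_top_of_infinite, Brnch.numBranches, if_neg hfin]

theorem exists_hom_ker_eq {A N Ω : Type u} [CommRing A] [IsLocalRing A] [CommRing N] [Field Ω] [IsAlgClosed Ω]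
    (f : A →+* N) (hf : f.IsIntegral) (τ : A →+* Ω) (hτ : RingHom.ker τ = maximalIdeal A) (Q : Ideal N) [Q.IsPrime]
    (hQ : Q.comap f = maximalIdeal A) : ∃ σ : N →+* Ω, σ.comp f = τ ∧ RingHom.ker σ = Q := by
  obtain ⟨σ, hσ⟩ := nonempty_hom ((Ideal.Quotient.mk Q).comp f)
    (RingHom.IsIntegral.trans _ _ hf (RingHom.isIntegral_of_surjective _ Ideal.Quotient.mk_surjective)) τ
    (by rw [← RingHom.comap_ker, Ideal.mk_ker, hQ, hτ])
  refine ⟨σ.comp (Ideal.Quotient.mk Q), by rw [RingHom.comp_assoc, hσ], ?_⟩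
  letI := f.toAlgebra
  haveI : Algebra.IsIntegral A N := algebraMap_isIntegral_iff.1 hf
  haveI : Q.IsMaximal := Ideal.isMaximal_of_isIntegral_of_isMaximal_comap (R := A) Q (by
    rw [show Q.comap (algebraMap A N) = maximalIdeal A from hQ]; exact maximalIdeal.isMaximal A)
  letI := Ideal.Quotient.field Q
  rw [RingHom.ker_comp_of_injective _ σ.injective, Ideal.mk_ker]

theorem exists_comp_eq {E Ω₁ Ω₂ : Type u} [Field E] [Field Ω₁] [Field Ω₂] [IsAlgClosed Ω₂]
    (s₁ : E →+* Ω₁) (s₂ : E →+* Ω₂) (h : s₁.IsIntegral) : ∃ g : Ω₁ →+* Ω₂, g.comp s₁ = s₂ := by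
  letI := s₁.toAlgebra
  letI := s₂.toAlgebra
  haveI : Algebra.IsIntegral E Ω₁ := algebraMap_isIntegral_iff.1 h
  haveI : Algebra.IsAlgebraic E Ω₁ := Algebra.IsIntegral.isAlgebraic
  let g : Ω₁ →ₐ[E] Ω₂ := IsAlgClosed.lift
  exact ⟨g.toRingHom, RingHom.ext g.commutes⟩

/-- Two geometric points with the same image differ by an endomorphism of the algebraically closed field fixing
the image of a purely inseparable extension. -/
theorem exists_move {R T N Ω : Type u} [CommRing R] [IsLocalRing R] [CommRing T] [CommRing N] [Field Ω] [IsAlgClosed Ω]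
    (f : R →+* N) (hf : f.IsIntegral) (φ : R →+* T) (τ : T →+* Ω) (c : ℕ) [ExpChar Ω c]
    (hpow : ∀ t : T, ∃ (n : ℕ) (a : R), τ t ^ c ^ n = τ.comp φ a) (hτR : RingHom.ker (τ.comp φ) = maximalIdeal R)
    (hint : (τ.comp φ).IsIntegral) (ρ₁ ρ₂ : N →+* Ω) (hρ₁ : ρ₁.comp f = τ.comp φ) (hρ₂ : ρ₂.comp f = τ.comp φ)
    (hker : RingHom.ker ρ₁ = RingHom.ker ρ₂) : ∃ g : Ω →+* Ω, g.comp ρ₁ = ρ₂ ∧ g.comp τ = τ := by
  haveI : (RingHom.ker ρ₁).IsPrime := RingHom.ker_isPrime _
  haveI : (RingHom.ker ρ₁).IsMaximal := by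
    letI := f.toAlgebra
    haveI : Algebra.IsIntegral R N := algebraMap_isIntegral_iff.1 hf
    refine Ideal.isMaximal_of_isIntegral_of_isMaximal_comap (R := R) _ ?_
    rw [show (RingHom.ker ρ₁).comap (algebraMap R N) = maximalIdeal R from
      (RingHom.comap_ker ρ₁ f).trans (by rw [hρ₁, hτR])]
    exact maximalIdeal.isMaximal R
  letI := Ideal.Quotient.field (RingHom.ker ρ₁)
  let s₁ : N ⧸ RingHom.ker ρ₁ →+* Ω := Ideal.Quotient.lift _ ρ₁ fun a ha => ha
  let s₂ : N ⧸ RingHom.ker ρ₁ →+* Ω := Ideal.Quotient.lift _ ρ₂ fun a ha => hker.le ha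
  obtain ⟨g, hg⟩ := exists_comp_eq s₁ s₂ (RingHom.IsIntegral.tower_top
    ((Ideal.Quotient.mk _).comp f) s₁ (by rw [← RingHom.comp_assoc]; exact hρ₁.symm ▸ hint))
  have hgρ : g.comp ρ₁ = ρ₂ := RingHom.ext fun x => RingHom.congr_fun hg (Ideal.Quotient.mk _ x)
  refine ⟨g, hgρ, RingHom.ext fun t => ?_⟩
  obtain ⟨n, a, ha⟩ := hpow t
  refine iterateFrobenius_inj Ω c n ?_
  rw [iterateFrobenius_def, iterateFrobenius_def, RingHom.comp_apply, ← map_pow, ha, ← RingHom.comp_apply g,
    ← hρ₁, ← RingHom.comp_assoc, hgρ, hρ₂, hρ₁]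

set_option maxHeartbeats 800000 in
/-- Branches are preserved when the normalised components stay geometrically unibranch and the residue
extension is purely inseparable. -/
theorem numBranches_eq (R T : Type u) [CommRing R] [IsLocalRing R] [CommRing T] [IsLocalRing T] [Algebra R T]
    [IsLocalHom (algebraMap R T)] [Module.Flat R T] (c : ℕ) [ExpChar (ResidueField T) c]
    (hpi : ∀ t : T, ∃ (n : ℕ) (a : R), t ^ c ^ n - algebraMap R T a ∈ maximalIdeal T)
    (H : ∀ (p : Ideal R) (_ : p ∈ minimalPrimes R) (Q : Ideal (T ⊗[R] nrm R p)) [Q.IsMaximal],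
      CAlg2.IsGeomUnibranch (Localization.AtPrime Q)) :
    Brnch.numBranches T = Brnch.numBranches R := by
  classical
  rw [numBranches_eq_card_brs, numBranches_eq_card_brs]
  let Ω := AlgebraicClosure (ResidueField T)
  let ι : ResidueField T →+* Ω := algebraMap _ _
  let τ : T →+* Ω := ι.comp (residue T)
  have hτ : RingHom.ker τ = maximalIdeal T := by
    rw [RingHom.ker_comp_of_injective _ (RingHom.injective _), IsLocalRing.ker_residue]
  have hloc : (maximalIdeal T).comap (algebraMap R T) = maximalIdeal R :=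
    ((local_hom_TFAE (algebraMap R T)).out 0 4).1 ‹IsLocalHom (algebraMap R T)›
  let τR : R →+* Ω := τ.comp (algebraMap R T)
  have hτR : RingHom.ker τR = maximalIdeal R := by
    rw [← RingHom.comap_ker, hτ]
    exact hloc
  haveI : ExpChar Ω c := expChar_of_injective_ringHom ι.injective c
  have hpow : ∀ t : T, ∃ (n : ℕ) (a : R), τ t ^ c ^ n = τR a := fun t => by
    obtain ⟨n, a, h⟩ := hpi t
    refine ⟨n, a, ?_⟩
    rw [← hτ, RingHom.mem_ker, map_sub, sub_eq_zero, map_pow] at h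
    exact h
  have hint : τR.IsIntegral := fun x => by
    have h1 : ((residue T).comp (algebraMap R T)).IsIntegral := fun y => by
      obtain ⟨t, rfl⟩ := residue_surjective y
      obtain ⟨n, a, h⟩ := hpi t
      letI := ((residue T).comp (algebraMap R T)).toAlgebra
      refine IsIntegral.of_pow (pow_pos (expChar_pos (ResidueField T) c) n) (show IsIntegral R (residue T t ^ c ^ n) from ?_)
      have e : residue T t ^ c ^ n = algebraMap R (ResidueField T) a := by
        rw [← map_pow, ← sub_eq_zero]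
        change residue T (t ^ c ^ n) - residue T (algebraMap R T a) = 0
        rw [← map_sub, residue_eq_zero_iff]
        exact h
      rw [e]
      exact isIntegral_algebraMap
    exact RingHom.IsIntegral.trans ((residue T).comp (algebraMap R T)) ι h1
      (algebraMap_isIntegral_iff.2 (inferInstance : Algebra.IsIntegral (ResidueField T) Ω)) x
  have hmem : ∀ P : minimalPrimes T, P.1.comap (algebraMap R T) ∈ minimalPrimes R := fun P =>
    Hensel.comap_mem_minimalPrimes_of_flat (R := R) P.2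
  let F : brs T → brs R := fun b =>
    haveI := b.1.2.1.1
    haveI := (hmem b.1).1.1
    ⟨⟨_, hmem b.1⟩, ⟨⟨b.2.1.asIdeal.comap (nmap _ b.1.1 rfl), Ideal.IsPrime.comap _⟩, by
      rw [Ideal.comap_comap, nmap_comp, ← Ideal.comap_comap, b.2.2]
      exact hloc⟩⟩
  -- a geometric point for each branch
  have hpt : ∀ b : brs T, ∃ σ : nrm T b.1.1 →+* Ω, σ.comp (nrmMap T b.1.1) = τ ∧ RingHom.ker σ = b.2.1.asIdeal :=
    fun b => exists_hom_ker_eq _ (nrmMap_isIntegral T b.1.1) τ hτ _ b.2.2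
  refine ENat.card_congr (Equiv.ofBijective F ⟨?_, ?_⟩)
  · intro b₁ b₂ h
    obtain ⟨σ₁, hσ₁, hk₁⟩ := hpt b₁
    obtain ⟨σ₂, hσ₂, hk₂⟩ := hpt b₂
    -- the component below and the restrictions of the points to it
    have key : ∀ (x : brs R) (b : brs T) (σ : nrm T b.1.1 →+* Ω), F b = x → RingHom.ker σ = b.2.1.asIdeal →
        haveI := b.1.2.1.1
        haveI := x.1.2.1.1
        ∃ hP : b.1.1.comap (algebraMap R T) = x.1.1, RingHom.ker (σ.comp (nmap x.1.1 b.1.1 hP)) = x.2.1.asIdeal := by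
      intro x b σ e hk
      subst e
      exact ⟨rfl, by rw [← RingHom.comap_ker, hk]⟩
    generalize hx : F b₂ = x at h
    haveI := b₁.1.2.1.1
    haveI := b₂.1.2.1.1
    haveI := x.1.2.1.1
    obtain ⟨hp₁, hker₁⟩ := key x b₁ σ₁ h hk₁
    obtain ⟨hp₂, hker₂⟩ := key x b₂ σ₂ hx hk₂
    have hρ₁ : (σ₁.comp (nmap x.1.1 b₁.1.1 hp₁)).comp (nrmMap R x.1.1) = τR := by
      rw [RingHom.comp_assoc, nmap_comp, ← RingHom.comp_assoc, hσ₁]
    have hρ₂ : (σ₂.comp (nmap x.1.1 b₂.1.1 hp₂)).comp (nrmMap R x.1.1) = τR := by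
      rw [RingHom.comp_assoc, nmap_comp, ← RingHom.comp_assoc, hσ₂]
    obtain ⟨g, hgρ, hgτ⟩ := exists_move (nrmMap R x.1.1) (nrmMap_isIntegral R x.1.1) (algebraMap R T) τ c hpow
      (hτR : RingHom.ker τR = maximalIdeal R) hint _ _ hρ₁ hρ₂ (hker₁.trans hker₂.symm)
    obtain ⟨P, hP, huniq, σ', -, huσ⟩ :=
      existsUnique_lift R T τ hτ x.1.1 x.1.2 (H _ x.1.2) _ hρ₂
    have h₁ : (g.comp σ₁).comp (nrmMap T b₁.1.1) = τ ∧
        (g.comp σ₁).comp (nmap x.1.1 b₁.1.1 hp₁) = σ₂.comp (nmap x.1.1 b₂.1.1 hp₂) :=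
      ⟨by rw [RingHom.comp_assoc, hσ₁, hgτ], by rw [RingHom.comp_assoc, hgρ]⟩
    have e₁ : b₁.1 = P := huniq b₁.1 hp₁ ⟨_, h₁⟩
    have e₂ : b₂.1 = P := huniq b₂.1 hp₂ ⟨σ₂, hσ₂, rfl⟩
    obtain ⟨P₁, Q₁, hQ₁⟩ := b₁
    obtain ⟨P₂, Q₂, hQ₂⟩ := b₂
    dsimp only at e₁ e₂
    subst e₁ e₂
    have hs : g.comp σ₁ = σ₂ := (huσ _ h₁).trans (huσ _ ⟨hσ₂, rfl⟩).symm
    have hQ : Q₁ = Q₂ := by
      refine PrimeSpectrum.ext ?_
      exact hk₁.symm.trans (((RingHom.ker_comp_of_injective σ₁ g.injective).symm.trans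
        (congrArg RingHom.ker hs)).trans hk₂)
    subst hQ
    rfl
  · rintro ⟨⟨p, hp⟩, ⟨Q, hQ⟩⟩
    haveI := hp.1.1
    obtain ⟨σ, hσ, hk⟩ := exists_hom_ker_eq (nrmMap R p) (nrmMap_isIntegral R p) τR hτR Q.asIdeal hQ
    obtain ⟨P, hP, -, σ', ⟨hσT, hσN⟩, -⟩ := existsUnique_lift R T τ hτ p hp (H p hp) σ hσ
    haveI := P.2.1.1
    refine ⟨⟨P, ⟨⟨RingHom.ker σ', RingHom.ker_isPrime _⟩, by rw [RingHom.comap_ker, hσT, hτ]⟩⟩, ?_⟩
    subst hP
    refine Sigma.ext rfl (heq_of_eq (Subtype.ext (PrimeSpectrum.ext ?_)))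
    change (RingHom.ker σ').comap _ = Q.asIdeal
    rw [RingHom.comap_ker, hσN, hk]

end Groth.Agent.GUField
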