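import Groth.Agent.BranchNorm.Algebra
import Groth.Agent.S9811
import Groth.Agent.Hensel.BranchMore

/-!
Geometric branches as geometric points of the normalisations of the irreducible components.
-/

set_option autoImplicit false
set_option linter.style.haveILetI false

universe u

open IsLocalRing

namespace Groth.Agent.GUField

/-- The normalisation of the component through a prime. -/
abbrev nrm (A : Type u) [CommRing A] (P : Ideal A) : Type u := integralClosure (A ⧸ P) (FractionRing (A ⧸ P))

/-- The structure map of the normalisation of a component. -/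
noncomputable def nrmMap (A : Type u) [CommRing A] (P : Ideal A) : A →+* nrm A P :=
  (algebraMap (A ⧸ P) (nrm A P)).comp (Ideal.Quotient.mk P)

theorem nrmMap_isIntegral (A : Type u) [CommRing A] (P : Ideal A) : (nrmMap A P).IsIntegral :=
  RingHom.IsIntegral.trans _ _ (RingHom.isIntegral_of_surjective _ Ideal.Quotient.mk_surjective)
    (algebraMap_isIntegral_iff.2 inferInstance)

theorem ker_nrmMap (A : Type u) [CommRing A] (P : Ideal A) [P.IsPrime] : RingHom.ker (nrmMap A P) = P := by
  rw [nrmMap, RingHom.ker_comp_of_injective _ (fun x y h => IsFractionRing.injective (A ⧸ P) (FractionRing (A ⧸ P))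
    (congrArg Subtype.val h)), Ideal.mk_ker]

/-- Geometric points of the normalisations of the components over a given geometric point. -/
def pts (A : Type u) [CommRing A] {Ω : Type u} [Field Ω] (τ : A →+* Ω) : Type u :=
  Σ P : minimalPrimes A, {σ : nrm A P.1 →+* Ω // σ.comp (nrmMap A P.1) = τ}

/-- Changing the algebraically closed field does not change the geometric points. -/
theorem card_hom_congr {A N Ω₁ Ω₂ : Type u} [CommRing A] [CommRing N] [Field Ω₁] [IsAlgClosed Ω₁] [Field Ω₂]
    (f : A →+* N) (hf : f.IsIntegral) (τ : A →+* Ω₁) (j : Ω₁ →+* Ω₂) :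
    ENat.card {σ : N →+* Ω₁ // σ.comp f = τ} = ENat.card {σ : N →+* Ω₂ // σ.comp f = j.comp τ} := by
  refine ENat.card_congr (Equiv.ofBijective (fun σ => ⟨j.comp σ.1, by rw [RingHom.comp_assoc, σ.2]⟩) ⟨?_, ?_⟩)
  · intro σ σ' h
    exact Subtype.ext (RingHom.ext fun x => j.injective (RingHom.congr_fun (congrArg Subtype.val h) x))
  · rintro ⟨σ, hσ⟩
    have hmem : ∀ x, σ x ∈ j.range := fun x => by
      obtain ⟨g, hg, hgx⟩ := hf x
      refine Polynomial.Splits.mem_range_of_isRoot (f := g.map τ) (IsAlgClosed.splits _)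
        (hg.map τ).ne_zero (i := j) ?_
      rw [Polynomial.IsRoot.def, Polynomial.map_map, ← hσ, Polynomial.eval_map, ← Polynomial.hom_eval₂, hgx, map_zero]
    let e := RingEquiv.ofBijective j.rangeRestrict ⟨fun x y h => j.injective (congrArg Subtype.val h), j.rangeRestrict_surjective⟩
    let σ' : N →+* Ω₁ := e.symm.toRingHom.comp (σ.codRestrict _ hmem)
    have hσ' : ∀ x, j (σ' x) = σ x := fun x => congrArg Subtype.val (e.apply_symm_apply ⟨σ x, hmem x⟩)
    exact ⟨⟨σ', RingHom.ext fun a => j.injective ((hσ' _).trans (RingHom.congr_fun hσ a))⟩,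
      Subtype.ext (RingHom.ext hσ')⟩

/-- A geometric point lifts along an integral map. -/
theorem nonempty_hom {A N Ω : Type u} [CommRing A] [CommRing N] [Field Ω] [IsAlgClosed Ω] (f : A →+* N)
    (hf : f.IsIntegral) (τ : A →+* Ω) (h : RingHom.ker f ≤ RingHom.ker τ) :
    Nonempty {σ : N →+* Ω // σ.comp f = τ} := by
  letI := f.toAlgebra
  haveI : Algebra.IsIntegral A N := algebraMap_isIntegral_iff.1 hf
  let p := RingHom.ker τ
  haveI : p.IsPrime := RingHom.ker_isPrime _
  obtain ⟨Q, -, hQ, hQp⟩ := Ideal.exists_ideal_over_prime_of_isIntegral p (⊥ : Ideal N) (by rwa [← RingHom.ker_eq_comap_bot])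
  haveI := hQ
  haveI : Q.LiesOver p := ⟨hQp.symm⟩
  let τ' : A ⧸ p →+* Ω := Ideal.Quotient.lift p τ fun a ha => ha
  letI : Algebra (A ⧸ p) Ω := τ'.toAlgebra
  haveI : FaithfulSMul (A ⧸ p) Ω :=
    (faithfulSMul_iff_algebraMap_injective _ _).2 (RingHom.lift_injective_of_ker_le_ideal _ _ le_rfl)
  haveI : Algebra.IsIntegral A (N ⧸ Q) := Algebra.IsIntegral.trans N
  haveI : Algebra.IsIntegral (A ⧸ p) (N ⧸ Q) := Algebra.IsIntegral.tower_top A
  haveI : Algebra.IsAlgebraic (A ⧸ p) (N ⧸ Q) := Algebra.IsIntegral.isAlgebraic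
  let σ : N ⧸ Q →ₐ[A ⧸ p] Ω := IsAlgClosed.lift
  exact ⟨⟨σ.toRingHom.comp (Ideal.Quotient.mk Q), RingHom.ext fun a => σ.commutes (Ideal.Quotient.mk p a)⟩⟩

/-- The branches of a local domain in terms of one geometric point. -/
theorem numGeomBranches_domain (A : Type u) [CommRing A] [IsLocalRing A] [IsDomain A] {Ω : Type u} [Field Ω]
    [IsAlgClosed Ω] (τ : A →+* Ω) (hτ : RingHom.ker τ = maximalIdeal A) :
    Brnch.numGeomBranches A = ENat.card {σ : integralClosure A (FractionRing A) →+* Ω //
      σ.comp (algebraMap A (integralClosure A (FractionRing A))) = τ} := by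
  haveI : IsLocalization.AtPrime A (maximalIdeal A) :=
    IsLocalization.self fun x hx => not_not.1 fun h => hx ((mem_maximalIdeal x).2 h)
  rw [(BranchNorm.branches_eq A (maximalIdeal A) A (FractionRing A) (integralClosure A (FractionRing A)) AlgEquiv.refl).2]
  let τ' : ResidueField A →+* Ω := Ideal.Quotient.lift (maximalIdeal A) τ fun a ha => hτ.ge ha
  letI := τ'.toAlgebra
  let j : AlgebraicClosure (ResidueField A) →ₐ[ResidueField A] Ω := IsAlgClosed.lift
  have hj : j.toRingHom.comp (Brnch.toClosure A) = τ := RingHom.ext fun a => j.commutes (residue A a)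
  simp only [Algebra.algebraMap_self, RingHom.comp_id]
  rw [card_hom_congr _ (algebraMap_isIntegral_iff.2 inferInstance) (Brnch.toClosure A) j.toRingHom, hj]

/-- Geometric branches as geometric points of the normalised components. -/
theorem numGeomBranches_eq_card_pts (A : Type u) [CommRing A] [IsLocalRing A] {Ω : Type u} [Field Ω]
    [IsAlgClosed Ω] (τ : A →+* Ω) (hτ : RingHom.ker τ = maximalIdeal A) :
    Brnch.numGeomBranches A = ENat.card (pts A τ) := by
  classical
  have hle : ∀ P : minimalPrimes A, P.1 ≤ RingHom.ker τ := fun P => hτ ▸ le_maximalIdeal P.2.1.1.ne_top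
  have hne : ∀ P : minimalPrimes A, Nonempty {σ : nrm A P.1 →+* Ω // σ.comp (nrmMap A P.1) = τ} := fun P =>
    nonempty_hom _ (nrmMap_isIntegral A P.1) τ (by haveI := P.2.1.1; rw [ker_nrmMap]; exact hle P)
  by_cases hfin : (minimalPrimes A).Finite
  · haveI := hfin.fintype
    rw [S9811.result A hfin, finsum_eq_sum_of_fintype, pts, Hensel.eNat_card_sigma]
    refine Finset.sum_congr rfl fun P _ => ?_
    haveI := P.2.1.1
    haveI : IsLocalRing (A ⧸ P.1) := .of_surjective' _ Ideal.Quotient.mk_surjective
    let τ' : A ⧸ P.1 →+* Ω := Ideal.Quotient.lift P.1 τ fun a ha => hle P ha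
    have hτ' : RingHom.ker τ' = maximalIdeal (A ⧸ P.1) := by
      ext x
      obtain ⟨a, rfl⟩ := Ideal.Quotient.mk_surjective x
      rw [RingHom.mem_ker, Ideal.Quotient.lift_mk, ← RingHom.mem_ker, hτ, mem_maximalIdeal, mem_maximalIdeal,
        mem_nonunits_iff, mem_nonunits_iff]
      haveI : IsLocalHom (Ideal.Quotient.mk P.1) := .of_surjective _ Ideal.Quotient.mk_surjective
      exact ⟨fun h hu => h (IsUnit.of_map (Ideal.Quotient.mk P.1) a hu), fun h hu => h (hu.map _)⟩
    rw [numGeomBranches_domain (A ⧸ P.1) τ' hτ']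
    refine ENat.card_congr (Equiv.subtypeEquivRight fun σ => ?_)
    constructor
    · intro h
      rw [nrmMap, ← RingHom.comp_assoc, h]
      rfl
    · intro h
      exact Ideal.Quotient.ringHom_ext (by rw [RingHom.comp_assoc]; exact h)
  · haveI : Infinite (minimalPrimes A) := Set.infinite_coe_iff.2 hfin
    haveI : Infinite (pts A τ) := Infinite.of_injective (fun P : minimalPrimes A => (⟨P, (hne P).some⟩ : pts A τ))
      fun P P' h => congrArg Sigma.fst h
    rw [ENat.card_eq_top_of_infinite, Brnch.numGeomBranches, if_neg hfin]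

end Groth.Agent.GUField
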