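import Mathlib
import Groth.Agent.Unibranch.Local
import Groth.Agent.S2690
import Groth.Agent.S2451
import Groth.Agent.Hensel.NormRed

/-!
Normal algebras over fields stay geometrically unibranch after any extension of the base field.
-/

set_option autoImplicit false
set_option linter.style.haveILetI false

universe u

open TensorProduct

namespace Groth.Agent.GUField

/-- Purely inseparable integral extensions of normal rings are geometrically unibranch. -/
theorem isGeomUnibranch_of_pow_mem {L R B : Type u} [Field L] [CommRing R] [CommRing B] [Algebra L B] [Algebra R B]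
    (p : ℕ) [ExpChar L p] (hpow : ∀ b : B, ∃ n : ℕ, b ^ p ^ n ∈ (algebraMap R B).range)
    (hinj : Function.Injective (algebraMap R B)) (q : Ideal B) [q.IsPrime]
    [IsDomain (Localization.AtPrime (q.comap (algebraMap R B)))]
    [IsIntegrallyClosed (Localization.AtPrime (q.comap (algebraMap R B)))] :
    CAlg2.IsGeomUnibranch (Localization.AtPrime q) := by
  classical
  let r := q.comap (algebraMap R B)
  let Rr := Localization.AtPrime r
  let r₀ : Ideal R := RingHom.ker (algebraMap R Rr)
  haveI : r₀.IsPrime := RingHom.ker_isPrime _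
  have hr₀ : ∀ P : Ideal R, P.IsPrime → P ≤ r → r₀ ≤ P := fun P hP hle x hx => by
    obtain ⟨⟨m, hm⟩, hmx⟩ := (IsLocalization.map_eq_zero_iff r.primeCompl Rr x).mp hx
    exact (hP.mem_or_mem (show m * x ∈ P by rw [show m * x = 0 from hmx]; exact P.zero_mem)).resolve_left fun h => hm (hle h)
  have hr₀r : r₀ ≤ r := hr₀ r inferInstance le_rfl
  have hppos : ∀ n, 0 < p ^ n := fun n => pow_pos (expChar_pos L p) n
  haveI hint : Algebra.IsIntegral R B := ⟨fun b => by
    obtain ⟨n, a, ha⟩ := hpow b
    exact IsIntegral.of_pow (hppos n) (ha ▸ isIntegral_algebraMap)⟩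
  obtain ⟨q₀, -, hq₀, hq₀c⟩ := Ideal.exists_ideal_over_prime_of_isIntegral r₀ (⊥ : Ideal B) (by
    rw [← RingHom.ker_eq_comap_bot, (RingHom.injective_iff_ker_eq_bot _).1 hinj]; exact bot_le)
  haveI := hq₀
  have hle : q₀ ≤ q := fun b hb => by
    obtain ⟨n, a, ha⟩ := hpow b
    have h1 : a ∈ r₀ := by
      rw [← hq₀c, Ideal.mem_comap, ha]
      exact Ideal.pow_mem_of_mem _ hb _ (hppos n)
    have h2 : algebraMap R B a ∈ q := hr₀r h1
    rw [ha] at h2
    exact Ideal.IsPrime.mem_of_pow_mem ‹_› _ h2
  have hmin : ∀ q' : Ideal B, q'.IsPrime → q' ≤ q → q₀ ≤ q' := fun q' hq' hle' b hb => by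
    obtain ⟨n, a, ha⟩ := hpow b
    have h1 : a ∈ r₀ := by
      rw [← hq₀c, Ideal.mem_comap, ha]
      exact Ideal.pow_mem_of_mem _ hb _ (hppos n)
    have h2 : algebraMap R B a ∈ q' := hr₀ _ (Ideal.IsPrime.comap _) (Ideal.comap_mono hle') h1
    rw [ha] at h2
    exact hq'.mem_of_pow_mem _ h2
  refine Unibranch.isGeomUnibranch_of_guAt q q₀ (Localization.AtPrime q) hle hmin fun hq' => ?_
  haveI := hq'
  let D := B ⧸ q₀
  let F := FractionRing D
  let R' := integralClosure D F
  haveI : FaithfulSMul D R' := (faithfulSMul_iff_algebraMap_injective _ _).2 fun x y h =>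
    IsFractionRing.injective D F (congrArg Subtype.val h)
  haveI : IsIntegrallyClosed R' := Hensel.isIntegrallyClosed_integralClosure_field D F
  haveI : IsDomain (D ⧸ q.map (Ideal.Quotient.mk q₀)) := Ideal.Quotient.isDomain _
  haveI hexp : ExpChar (D ⧸ q.map (Ideal.Quotient.mk q₀)) p :=
    expChar_of_injective_ringHom (f := ((Ideal.Quotient.mk (q.map (Ideal.Quotient.mk q₀))).comp
      ((Ideal.Quotient.mk q₀).comp (algebraMap L B)))) (RingHom.injective _) p
  haveI : ExpChar F p := expChar_of_injective_ringHom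
    (f := (algebraMap D F).comp ((Ideal.Quotient.mk q₀).comp (algebraMap L B))) (RingHom.injective _) p
  refine ⟨R', inferInstance, inferInstance, inferInstance, inferInstance, inferInstance, inferInstance,
    ⟨p, hexp, fun z => ?_⟩⟩
  -- the map to the function field of the normal local ring
  let ρ : R →+* F := (algebraMap D F).comp ((Ideal.Quotient.mk q₀).comp (algebraMap R B))
  have hρ0 : ∀ c, ρ c = 0 ↔ c ∈ r₀ := fun c => by
    change algebraMap D F (Ideal.Quotient.mk q₀ (algebraMap R B c)) = 0 ↔ _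
    rw [map_eq_zero_iff _ (IsFractionRing.injective D F), Ideal.Quotient.eq_zero_iff_mem, ← Ideal.mem_comap, hq₀c]
  let g : Rr →+* F := IsLocalization.lift (M := r.primeCompl) (g := ρ) fun s =>
    isUnit_iff_ne_zero.mpr fun h => s.2 (hr₀r ((hρ0 s).1 h))
  have hgc : ∀ c, g (algebraMap R Rr c) = ρ c := fun c => IsLocalization.lift_eq _ c
  have hg : Function.Injective g := by
    rw [injective_iff_map_eq_zero]
    intro x hx
    obtain ⟨c, s, rfl⟩ := IsLocalization.exists_mk'_eq r.primeCompl x
    have h1 : ρ c = 0 := by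
      rw [← hgc, ← IsLocalization.mk'_spec Rr c s, map_mul, hx, zero_mul]
    have h2 : algebraMap R Rr c = 0 := (hρ0 c).1 h1
    rw [← IsLocalization.mk'_zero (S := Rr) (s := s), IsLocalization.mk'_eq_iff_eq, map_mul, map_mul, h2, map_zero]
  let κ : FractionRing Rr →+* F := IsFractionRing.lift hg
  have hκ : ∀ w, κ (algebraMap Rr (FractionRing Rr) w) = g w := IsFractionRing.lift_algebraMap hg
  obtain ⟨x, y, hy, hxy⟩ := IsFractionRing.div_surjective (A := D) (z : F)
  obtain ⟨x, rfl⟩ := Ideal.Quotient.mk_surjective x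
  obtain ⟨y, rfl⟩ := Ideal.Quotient.mk_surjective y
  obtain ⟨n₁, a, ha⟩ := hpow x
  obtain ⟨n₂, c, hc⟩ := hpow y
  refine ⟨n₁ + n₂, ?_⟩
  have hz : (z : F) ^ p ^ (n₁ + n₂) = κ (algebraMap Rr _ (algebraMap R Rr (a ^ p ^ n₂)) /
      algebraMap Rr _ (algebraMap R Rr (c ^ p ^ n₁))) := by
    rw [map_div₀, hκ, hκ, hgc, hgc, ← hxy, div_pow]
    change _ = algebraMap D F (Ideal.Quotient.mk q₀ (algebraMap R B (a ^ p ^ n₂))) /
      algebraMap D F (Ideal.Quotient.mk q₀ (algebraMap R B (c ^ p ^ n₁)))
    simp only [map_pow, ha, hc]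
    rw [← pow_mul, ← pow_mul, ← pow_add, ← pow_add, add_comm n₂ n₁]
  haveI : Algebra.IsIntegral B D := Algebra.IsIntegral.of_surjective (Ideal.Quotient.mkₐ B q₀) Ideal.Quotient.mk_surjective
  haveI : Algebra.IsIntegral R D := Algebra.IsIntegral.trans B
  obtain ⟨w, hw⟩ : ∃ w : Rr, g w = (z : F) ^ p ^ (n₁ + n₂) := by
    set t := algebraMap Rr (FractionRing Rr) (algebraMap R Rr (a ^ p ^ n₂)) /
      algebraMap Rr _ (algebraMap R Rr (c ^ p ^ n₁)) with ht
    have hi : IsIntegral R ((z : F) ^ p ^ (n₁ + n₂)) := (isIntegral_trans (R := R) (A := D) _ z.2).pow _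
    have hti : IsIntegral Rr t := by
      obtain ⟨f, hf, hf0⟩ := hi
      refine ⟨f.map (algebraMap R Rr), hf.map _, κ.injective ?_⟩
      rw [Polynomial.eval₂_map, Polynomial.hom_eval₂, map_zero, ← hz, ← hf0]
      refine Polynomial.eval₂_congr (RingHom.ext fun r' => ?_) rfl rfl
      rw [RingHom.comp_apply, RingHom.comp_apply, hκ, hgc]
      rfl
    obtain ⟨w, hw⟩ := IsIntegrallyClosed.algebraMap_eq_of_integral hti
    exact ⟨w, by rw [← hκ, hw, ← hz]⟩
  obtain ⟨e, s, rfl⟩ := IsLocalization.exists_mk'_eq r.primeCompl w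
  refine ⟨Ideal.Quotient.mk q₀ (algebraMap R B (s : R)), Ideal.Quotient.mk q₀ (algebraMap R B e), fun h => s.2 ?_, ?_⟩
  · change algebraMap R B (s : R) ∈ q
    obtain ⟨b, hb, hbe⟩ := (Ideal.mem_map_iff_of_surjective _ Ideal.Quotient.mk_surjective).1 h
    have := q.sub_mem hb (hle (Ideal.Quotient.eq.1 hbe))
    rwa [sub_sub_cancel] at this
  · intro Q _ _
    convert Q.zero_mem
    refine Subtype.ext ?_
    change algebraMap D F (Ideal.Quotient.mk q₀ (algebraMap R B (s : R))) * (z : F) ^ p ^ (n₁ + n₂) -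
      algebraMap D F (Ideal.Quotient.mk q₀ (algebraMap R B e)) = 0
    rw [sub_eq_zero, ← hw, show algebraMap D F (Ideal.Quotient.mk q₀ (algebraMap R B (s : R))) = g (algebraMap R Rr s) from
      (hgc _).symm, ← map_mul, IsLocalization.mk'_spec', hgc]
    rfl

/-- Every field extension is purely inseparable over a geometrically reduced one. -/
theorem exists_geomReduced_subfield (k K : Type u) [Field k] [Field K] [Algebra k K] :
    ∃ L : IntermediateField k K, Algebra.IsGeometricallyReduced k L ∧ IsPurelyInseparable L K := by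
  obtain ⟨s, hs⟩ := exists_isTranscendenceBasis k K
  let T := IntermediateField.adjoin k (Set.range (Subtype.val : s → K))
  haveI : Algebra.IsAlgebraic T K := hs.isAlgebraic_field
  let S := separableClosure T K
  refine ⟨S.restrictScalars k, ?_, (inferInstance : IsPurelyInseparable S K)⟩
  change Algebra.IsGeometricallyReduced k S
  refine (S2451.result (k := k) (K := S)).1 ?_
  haveI : Algebra.FormallySmooth k (MvPolynomial s k) := inferInstance
  haveI : Algebra.FormallySmooth (MvPolynomial s k) (FractionRing (MvPolynomial s k)) :=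
    Algebra.FormallySmooth.of_isLocalization (nonZeroDivisors _)
  haveI : Algebra.FormallySmooth k (FractionRing (MvPolynomial s k)) :=
    Algebra.FormallySmooth.comp k (MvPolynomial s k) _
  haveI : Algebra.FormallySmooth k T := Algebra.FormallySmooth.of_equiv hs.1.aevalEquivField
  haveI : Algebra.FormallyEtale T S := Algebra.FormallyEtale.of_isSeparable T S
  exact Algebra.FormallySmooth.comp k T S

/-- The purely inseparable part of the base extension. -/
theorem isGeomUnibranch_tensor_aux (k A L K : Type u) [Field k] [CommRing A] [Algebra k A] (hA : EGA4.IsNormalRing A)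
    [Field L] [Field K] [Algebra k L] [Algebra k K] [Algebra L K] [IsScalarTower k L K] [IsPurelyInseparable L K]
    [Algebra.IsGeometricallyReduced k L] (q : Ideal (K ⊗[k] A)) [q.IsPrime] :
    CAlg2.IsGeomUnibranch (Localization.AtPrime q) := by
  obtain ⟨p, hp⟩ := ExpChar.exists L
  haveI := hp
  haveI : ExpChar K p := expChar_of_injective_ringHom (algebraMap L K).injective p
  let φ : L ⊗[k] A →ₐ[k] K ⊗[k] A := Algebra.TensorProduct.map (IsScalarTower.toAlgHom k L K) (AlgHom.id k A)
  have hinj : Function.Injective φ.toRingHom :=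
    Module.Flat.rTensor_preserves_injective_linearMap (IsScalarTower.toAlgHom k L K).toLinearMap (algebraMap L K).injective
  have hpow : ∀ b : K ⊗[k] A, ∃ n : ℕ, b ^ p ^ n ∈ φ.toRingHom.range := fun b => by
    rcases subsingleton_or_nontrivial (K ⊗[k] A) with h | h
    · exact ⟨0, 0, Subsingleton.elim _ _⟩
    haveI : ExpChar (K ⊗[k] A) p := expChar_of_injective_ringHom (algebraMap K (K ⊗[k] A)).injective p
    induction b using TensorProduct.induction_on with
    | zero => exact ⟨0, 0, by simp⟩
    | add b b' hb hb' =>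
      obtain ⟨n, a, ha⟩ := hb
      obtain ⟨m, a', ha'⟩ := hb'
      exact ⟨n + m, a ^ p ^ m + a' ^ p ^ n, by
        rw [map_add, map_pow, map_pow, ha, ha', add_pow_expChar_pow, ← pow_mul, ← pow_mul, ← pow_add, ← pow_add, add_comm m n]⟩
    | tmul c a =>
      obtain ⟨n, l, hl⟩ := IsPurelyInseparable.pow_mem L p c
      refine ⟨n, l ⊗ₜ (a ^ p ^ n), ?_⟩
      rw [Algebra.TensorProduct.tmul_pow, ← hl]
      rfl
  letI : Algebra (L ⊗[k] A) (K ⊗[k] A) := φ.toRingHom.toAlgebra
  obtain ⟨_, _⟩ := S2690.result k A L hA (q.comap (algebraMap (L ⊗[k] A) (K ⊗[k] A)))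
  exact isGeomUnibranch_of_pow_mem (L := L) p hpow hinj q

/-- Normal algebras over a field are geometrically unibranch after base field extension. -/
theorem isGeomUnibranch_tensor_field (k A K : Type u) [Field k] [CommRing A] [Algebra k A] (hA : EGA4.IsNormalRing A)
    [Field K] [Algebra k K] (q : Ideal (K ⊗[k] A)) [q.IsPrime] :
    CAlg2.IsGeomUnibranch (Localization.AtPrime q) := by
  obtain ⟨L, hL, hLK⟩ := exists_geomReduced_subfield k K
  exact isGeomUnibranch_tensor_aux k A L K hA q

end Groth.Agent.GUField
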