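import Groth.Agent.GUField.Invariant
import Groth.Agent.GUField.PurelyInsep
import Groth.Agent.SmoothGU.Basic

/-!
Geometric branches under base field extension and normal base change.
-/

set_option autoImplicit false
set_option linter.style.haveILetI false

universe u

open IsLocalRing TensorProduct

namespace Groth.Agent.GUField

theorem gu_of_localization {W M : Type u} [CommRing W] [CommRing M] [Algebra W M] (S : Submonoid W) [IsLocalization S M]
    (h : ∀ (P : Ideal W) [P.IsPrime], CAlg2.IsGeomUnibranch (Localization.AtPrime P)) (Q : Ideal M) [Q.IsPrime] :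
    CAlg2.IsGeomUnibranch (Localization.AtPrime Q) := by
  haveI := IsLocalization.isLocalization_isLocalization_atPrime_isLocalization S (Localization.AtPrime Q) Q
  haveI : (Q.comap (algebraMap W M)).IsPrime := Ideal.IsPrime.comap _
  exact SmoothGU.isGeomUnibranch_transfer (Q.comap (algebraMap W M)) (Localization.AtPrime (Q.comap (algebraMap W M)))
    (Localization.AtPrime Q) (h _)

theorem gu_of_ringEquiv {W M : Type u} [CommRing W] [CommRing M] (e : W ≃+* M)
    (h : ∀ (P : Ideal W) [P.IsPrime], CAlg2.IsGeomUnibranch (Localization.AtPrime P)) (Q : Ideal M) [Q.IsPrime] :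
    CAlg2.IsGeomUnibranch (Localization.AtPrime Q) := by
  letI := e.toRingHom.toAlgebra
  haveI : IsLocalization (⊥ : Submonoid W) W :=
    IsLocalization.self fun x hx => by rw [Submonoid.mem_bot.1 hx]; exact isUnit_one
  haveI : IsLocalization (⊥ : Submonoid W) M :=
    IsLocalization.isLocalization_of_algEquiv _ (AlgEquiv.ofBijective (Algebra.ofId W M) e.bijective)
  exact gu_of_localization ⊥ h Q

/-- Localisations commute with base change. -/
theorem gu_tensor_localization {R C T N : Type u} [CommRing R] [CommRing C] [CommRing T] [CommRing N] [Algebra R C]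
    [Algebra R T] [Algebra C T] [IsScalarTower R C T] [Algebra R N] (S : Submonoid C) [IsLocalization S T]
    (h : ∀ (P : Ideal (C ⊗[R] N)) [P.IsPrime], CAlg2.IsGeomUnibranch (Localization.AtPrime P))
    (Q : Ideal (T ⊗[R] N)) [Q.IsPrime] : CAlg2.IsGeomUnibranch (Localization.AtPrime Q) := by
  let W := C ⊗[R] N
  let S' : Submonoid W := S.map (algebraMap C W)
  let f : W →ₐ[R] T ⊗[R] N := Algebra.TensorProduct.map (IsScalarTower.toAlgHom R C T) (AlgHom.id R N)
  letI : Algebra W (T ⊗[R] N) := f.toRingHom.toAlgebra
  let L := Localization S'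
  have hu : ∀ s : S, IsUnit (algebraMap W L (algebraMap C W s)) := fun s =>
    IsLocalization.map_units L (⟨_, Submonoid.mem_map_of_mem _ s.2⟩ : S')
  let gT : T →+* L := IsLocalization.lift (M := S) (g := (algebraMap W L).comp (algebraMap C W)) hu
  let gTₐ : T →ₐ[R] L := { gT with
    commutes' := fun r => by
      change gT (algebraMap R T r) = _
      rw [IsScalarTower.algebraMap_apply R W L, IsScalarTower.algebraMap_apply R C T, IsLocalization.lift_eq, RingHom.comp_apply,
        ← IsScalarTower.algebraMap_apply R C W] }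
  let gNₐ : N →ₐ[R] L := { (algebraMap W L).comp (Algebra.TensorProduct.includeRight : N →ₐ[R] W).toRingHom with
    commutes' := fun r => (congrArg (algebraMap W L) ((Algebra.TensorProduct.includeRight : N →ₐ[R] W).commutes r)).trans
      (IsScalarTower.algebraMap_apply R W L r).symm }
  let back : T ⊗[R] N →ₐ[R] L := Algebra.TensorProduct.lift gTₐ gNₐ fun _ _ => Commute.all _ _
  have hS : ∀ y : S', IsUnit (f.toRingHom y) := by
    rintro ⟨_, s, hs, rfl⟩
    have : f.toRingHom (algebraMap C W s) = algebraMap T (T ⊗[R] N) (algebraMap C T s) := rfl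
    change IsUnit (f.toRingHom (algebraMap C W s))
    rw [this]
    exact (IsLocalization.map_units T ⟨s, hs⟩).map _
  let fwd : L →+* T ⊗[R] N := IsLocalization.lift hS
  have hfwd : ∀ w, fwd (algebraMap W L w) = f.toRingHom w := fun w => IsLocalization.lift_eq hS w
  have h1 : fwd.comp back.toRingHom = RingHom.id _ := by
    refine ringHom_ext_tmul _ _ (fun t => ?_) fun x => ?_
    · have e : (fwd.comp gT) = algebraMap T (T ⊗[R] N) := IsLocalization.ringHom_ext S (RingHom.ext fun c => by
        rw [RingHom.comp_apply, RingHom.comp_apply, IsLocalization.lift_eq, RingHom.comp_apply, hfwd]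
        rfl)
      change fwd (back (t ⊗ₜ 1)) = t ⊗ₜ 1
      rw [Algebra.TensorProduct.lift_tmul, map_one, mul_one]
      exact RingHom.congr_fun e t
    · change fwd (back (1 ⊗ₜ x)) = 1 ⊗ₜ x
      rw [Algebra.TensorProduct.lift_tmul, map_one, one_mul]
      refine (hfwd _).trans ?_
      change (algebraMap C T 1) ⊗ₜ[R] x = _
      rw [map_one]
  have h2 : back.toRingHom.comp fwd = RingHom.id L := by
    refine IsLocalization.ringHom_ext S' (ringHom_ext_tmul _ _ (fun c => ?_) fun x => ?_)
    · change back (fwd (algebraMap W L (c ⊗ₜ 1))) = algebraMap W L (c ⊗ₜ 1)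
      rw [hfwd]
      change back (algebraMap C T c ⊗ₜ 1) = _
      rw [Algebra.TensorProduct.lift_tmul, map_one, mul_one]
      exact IsLocalization.lift_eq hu c
    · change back (fwd (algebraMap W L (1 ⊗ₜ x))) = algebraMap W L (1 ⊗ₜ x)
      rw [hfwd]
      change back (algebraMap C T 1 ⊗ₜ x) = _
      rw [map_one, Algebra.TensorProduct.lift_tmul, map_one, one_mul]
      rfl
  have hbij : Function.Bijective fwd := ⟨Function.LeftInverse.injective (g := back) (RingHom.congr_fun h2),
    Function.RightInverse.surjective (g := back) (RingHom.congr_fun h1)⟩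
  let e : L ≃ₐ[W] T ⊗[R] N := AlgEquiv.ofBijective { fwd with commutes' := hfwd } hbij
  haveI : IsLocalization S' (T ⊗[R] N) := IsLocalization.isLocalization_of_algEquiv S' e
  exact gu_of_localization S' h Q

/-- Geometric branches are insensitive to extensions of the base field. -/
theorem numGeomBranches_tensor_field (k A k' : Type u) [Field k] [CommRing A] [IsLocalRing A] [Algebra k A] [Field k']
    [Algebra k k'] (q : Ideal (A ⊗[k] k')) [q.IsPrime] (hq : q.comap (algebraMap A (A ⊗[k] k')) = maximalIdeal A) :
    Brnch.numGeomBranches (Localization.AtPrime q) = Brnch.numGeomBranches A := by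
  let T := Localization.AtPrime q
  haveI : Module.Flat (A ⊗[k] k') T := IsLocalization.flat T q.primeCompl
  haveI : Module.Flat A T := Module.Flat.trans A (A ⊗[k] k') T
  haveI : IsLocalHom (algebraMap A T) := ((local_hom_TFAE (algebraMap A T)).out 0 4).2 (by
    rw [IsScalarTower.algebraMap_eq A (A ⊗[k] k') T, ← Ideal.comap_comap]
    exact (congrArg _ (IsLocalization.AtPrime.comap_maximalIdeal T q)).trans hq)
  refine numGeomBranches_eq A T fun p hp Q _ => ?_
  haveI := hp.1.1
  refine gu_tensor_localization (C := A ⊗[k] k') q.primeCompl (fun P _ => ?_) Q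
  let N := nrm A p
  haveI : IsIntegrallyClosed N := Hensel.isIntegrallyClosed_integralClosure_field _ _
  letI : Algebra k N := ((algebraMap A N).comp (algebraMap k A)).toAlgebra
  haveI : IsScalarTower k A N := IsScalarTower.of_algebraMap_eq fun _ => rfl
  have e : k' ⊗[k] N ≃+* (A ⊗[k] k') ⊗[A] N :=
    ((Algebra.TensorProduct.comm k k' N).toRingEquiv.trans
      (Algebra.TensorProduct.cancelBaseChange k A A N k').symm.toRingEquiv).trans
      (Algebra.TensorProduct.comm A N (A ⊗[k] k')).toRingEquiv
  exact gu_of_ringEquiv e (fun P' _ => isGeomUnibranch_tensor_field k N k' (GeomProp.isNormalRing_of_domain N) P') P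

end Groth.Agent.GUField
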