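import Groth.Agent.GUField.Count
import Groth.Agent.UnibranchEtale.Birational

/-!
Flat local homomorphisms over which the normalised components stay geometrically unibranch preserve
the number of geometric branches.
-/

set_option autoImplicit false
set_option linter.style.haveILetI false

universe u

open IsLocalRing TensorProduct

namespace Groth.Agent.GUField

theorem eq_of_radOver {D N Ω : Type u} [CommRing D] [CommRing N] [Algebra D N] [Field Ω] (Q : Ideal D)
    (h : Unibranch.RadOver D N Q) (σ₁ σ₂ : N →+* Ω) (he : σ₁.comp (algebraMap D N) = σ₂.comp (algebraMap D N))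
    (hk : RingHom.ker (σ₁.comp (algebraMap D N)) = Q) : σ₁ = σ₂ := by
  obtain ⟨q, hq, hr⟩ := h
  haveI := hq
  haveI : ExpChar Ω q := expChar_of_injective_ringHom
    (f := Ideal.Quotient.lift Q (σ₁.comp (algebraMap D N)) fun a ha => hk.ge ha)
    (RingHom.lift_injective_of_ker_le_ideal _ _ hk.le) q
  refine RingHom.ext fun z => ?_
  obtain ⟨n, s, a, hs, hQ⟩ := hr z
  have h1 := hQ (RingHom.ker σ₁) (RingHom.ker_isPrime _) (by rw [RingHom.comap_ker, hk])
  have h2 := hQ (RingHom.ker σ₂) (RingHom.ker_isPrime _) (by rw [RingHom.comap_ker, ← he, hk])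
  rw [RingHom.mem_ker, map_sub, map_mul, map_pow, sub_eq_zero] at h1 h2
  have e : ∀ r, σ₁ (algebraMap D N r) = σ₂ (algebraMap D N r) := RingHom.congr_fun he
  rw [← e, ← e] at h2
  have hs0 : σ₁ (algebraMap D N s) ≠ 0 := fun h' => hs (hk ▸ h')
  exact iterateFrobenius_inj Ω q n (mul_left_cancel₀ hs0 (h1.trans h2.symm))

theorem exists_mul_eq_tmul {R T N : Type u} [CommRing R] [CommRing T] [CommRing N] [Algebra R T] [Algebra R N]
    (p : Ideal R) [p.IsPrime] (hbir : ∀ x : N, ∃ s a : R, s ∉ p ∧ s • x = algebraMap R N a) (z : T ⊗[R] N) :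
    ∃ (s : R) (c : T), s ∉ p ∧ s • z = c ⊗ₜ[R] 1 := by
  induction z using TensorProduct.induction_on with
  | zero => exact ⟨1, 0, fun h => (inferInstance : p.IsPrime).ne_top ((Ideal.eq_top_iff_one _).2 h),
      by rw [smul_zero, TensorProduct.zero_tmul]⟩
  | tmul t x =>
    obtain ⟨s, a, hs, hx⟩ := hbir x
    refine ⟨s, a • t, hs, ?_⟩
    rw [← TensorProduct.tmul_smul, hx, Algebra.algebraMap_eq_smul_one, ← TensorProduct.smul_tmul]
  | add z z' hz hz' =>
    obtain ⟨s, c, hs, hsz⟩ := hz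
    obtain ⟨s', c', hs', hsz'⟩ := hz'
    refine ⟨s * s', s' • c + s • c', fun h => ((inferInstance : p.IsPrime).mem_or_mem h).elim hs hs', ?_⟩
    rw [smul_add, TensorProduct.add_tmul, ← TensorProduct.smul_tmul', ← TensorProduct.smul_tmul', ← hsz, ← hsz', smul_smul,
      smul_smul, mul_comm s' s]

theorem ringHom_ext_tmul {R T N S : Type u} [CommRing R] [CommRing T] [CommRing N] [CommRing S] [Algebra R T] [Algebra R N]
    (f g : T ⊗[R] N →+* S) (h₁ : ∀ t, f (t ⊗ₜ 1) = g (t ⊗ₜ 1)) (h₂ : ∀ x, f (1 ⊗ₜ x) = g (1 ⊗ₜ x)) : f = g :=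
  RingHom.ext fun z => by
    induction z using TensorProduct.induction_on with
    | zero => rw [map_zero, map_zero]
    | add a b ha hb => rw [map_add, map_add, ha, hb]
    | tmul t x =>
      rw [show t ⊗ₜ[R] x = (t ⊗ₜ[R] (1 : N)) * ((1 : T) ⊗ₜ[R] x) by
        rw [Algebra.TensorProduct.tmul_mul_tmul, mul_one, one_mul], map_mul, map_mul, h₁, h₂]

theorem exists_birational (R : Type u) [CommRing R] (p : Ideal R) [p.IsPrime] (x : nrm R p) :
    ∃ s a : R, s ∉ p ∧ s • x = algebraMap R (nrm R p) a := by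
  obtain ⟨a, b, hb, hab⟩ := IsFractionRing.div_surjective (A := R ⧸ p) (x : FractionRing (R ⧸ p))
  obtain ⟨a, rfl⟩ := Ideal.Quotient.mk_surjective a
  obtain ⟨b, rfl⟩ := Ideal.Quotient.mk_surjective b
  refine ⟨b, a, fun h => nonZeroDivisors.ne_zero hb (Ideal.Quotient.eq_zero_iff_mem.2 h), Subtype.ext ?_⟩
  change b • (x : FractionRing (R ⧸ p)) = algebraMap (R ⧸ p) (FractionRing (R ⧸ p)) (Ideal.Quotient.mk p a)
  rw [← hab, Algebra.smul_def, IsScalarTower.algebraMap_apply R (R ⧸ p) (FractionRing (R ⧸ p)), Ideal.Quotient.algebraMap_eq,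
    mul_div_cancel₀]
  exact fun h => nonZeroDivisors.ne_zero hb (IsFractionRing.injective (R ⧸ p) _ (h.trans (map_zero _).symm))

section

variable {R T : Type u} [CommRing R] [CommRing T] [Algebra R T] (p : Ideal R) (P : Ideal T) [p.IsPrime] [P.IsPrime]

/-- The map on function fields of components. -/
noncomputable def fmap (hP : P.comap (algebraMap R T) = p) : FractionRing (R ⧸ p) →+* FractionRing (T ⧸ P) :=
  IsFractionRing.lift (g := (algebraMap (T ⧸ P) (FractionRing (T ⧸ P))).comp (Ideal.quotientMap P (algebraMap R T) hP.ge))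
    ((IsFractionRing.injective (T ⧸ P) _).comp (Ideal.quotientMap_injective' hP.le))

theorem fmap_mk (hP : P.comap (algebraMap R T) = p) (a : R) :
    fmap p P hP (algebraMap (R ⧸ p) _ (Ideal.Quotient.mk p a)) =
      algebraMap (T ⧸ P) _ (Ideal.Quotient.mk P (algebraMap R T a)) := by
  rw [fmap, IsFractionRing.lift_algebraMap, RingHom.comp_apply, Ideal.quotientMap_mk]

theorem fmap_isIntegral (hP : P.comap (algebraMap R T) = p) (x : nrm R p) :
    IsIntegral (T ⧸ P) (fmap p P hP x) := by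
  obtain ⟨f, hf, hf0⟩ := x.2
  refine ⟨f.map (Ideal.quotientMap P (algebraMap R T) hP.ge), hf.map _, ?_⟩
  have h := congrArg (fmap p P hP) hf0
  rw [Polynomial.hom_eval₂, map_zero] at h
  rw [Polynomial.eval₂_map, ← h]
  refine Polynomial.eval₂_congr (RingHom.ext fun a => ?_) rfl rfl
  obtain ⟨a, rfl⟩ := Ideal.Quotient.mk_surjective a
  rw [RingHom.comp_apply, Ideal.quotientMap_mk, RingHom.comp_apply, fmap_mk]

/-- The map on normalisations of components. -/
noncomputable def nmap (hP : P.comap (algebraMap R T) = p) : nrm R p →+* nrm T P :=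
  ((fmap p P hP).comp (integralClosure (R ⧸ p) (FractionRing (R ⧸ p))).val.toRingHom).codRestrict
    (integralClosure (T ⧸ P) (FractionRing (T ⧸ P))).toSubring fun x => fmap_isIntegral p P hP x

theorem nmap_comp (hP : P.comap (algebraMap R T) = p) :
    (nmap p P hP).comp (nrmMap R p) = (nrmMap T P).comp (algebraMap R T) :=
  RingHom.ext fun a => Subtype.ext (fmap_mk p P hP a)

end

variable (R T : Type u) [CommRing R] [IsLocalRing R] [CommRing T] [IsLocalRing T] [Algebra R T]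
  [IsLocalHom (algebraMap R T)] [Module.Flat R T]

/-- A geometric point of the normalisation of a component has exactly one lift. -/
theorem existsUnique_lift {Ω : Type u} [Field Ω] [IsAlgClosed Ω] (τ : T →+* Ω) (hτ : RingHom.ker τ = maximalIdeal T)
    (p : Ideal R) [p.IsPrime] (hp : p ∈ minimalPrimes R)
    (H : ∀ (Q : Ideal (T ⊗[R] nrm R p)) [Q.IsMaximal], CAlg2.IsGeomUnibranch (Localization.AtPrime Q))
    (σ : nrm R p →+* Ω) (hσ : σ.comp (nrmMap R p) = τ.comp (algebraMap R T)) :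
    ∃ (P : minimalPrimes T) (hP : P.1.comap (algebraMap R T) = p),
      (∀ (P' : minimalPrimes T) (hP' : P'.1.comap (algebraMap R T) = p),
        (∃ σ' : nrm T P'.1 →+* Ω, σ'.comp (nrmMap T P'.1) = τ ∧
          (haveI := P'.2.1.1; σ'.comp (nmap p P'.1 hP')) = σ) → P' = P) ∧
      ∃! σ' : nrm T P.1 →+* Ω, σ'.comp (nrmMap T P.1) = τ ∧ (haveI := P.2.1.1; σ'.comp (nmap p P.1 hP)) = σ := by
  classical
  let N := nrm R p
  let M := T ⊗[R] N
  letI : Algebra R Ω := (τ.comp (algebraMap R T)).toAlgebra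
  let τₐ : T →ₐ[R] Ω := { τ with commutes' := fun _ => rfl }
  let σₐ : N →ₐ[R] Ω := { σ with commutes' := fun a => RingHom.congr_fun hσ a }
  let Θ : M →ₐ[R] Ω := Algebra.TensorProduct.lift τₐ σₐ fun _ _ => Commute.all _ _
  let Q := RingHom.ker Θ.toRingHom
  haveI : Q.IsPrime := RingHom.ker_isPrime _
  haveI : Algebra.IsIntegral R N := algebraMap_isIntegral_iff.1 (by
    rw [show algebraMap R N = nrmMap R p from RingHom.ext fun a => Subtype.ext rfl]; exact nrmMap_isIntegral R p)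
  have hΘT : ∀ t, Θ (t ⊗ₜ 1) = τ t := fun t => by
    rw [Algebra.TensorProduct.lift_tmul, map_one, mul_one]; rfl
  have hΘN : ∀ x, Θ (1 ⊗ₜ x) = σ x := fun x => by
    rw [Algebra.TensorProduct.lift_tmul, map_one, one_mul]; rfl
  haveI : Q.IsMaximal := by
    refine Ideal.isMaximal_of_isIntegral_of_isMaximal_comap (R := T) Q ?_
    rw [show Q.comap (algebraMap T M) = maximalIdeal T from ?_]
    · exact maximalIdeal.isMaximal T
    · rw [← hτ, RingHom.comap_ker]
      exact congrArg RingHom.ker (RingHom.ext fun t => hΘT t)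
  have hGU := H Q
  obtain ⟨Q₀, hQ₀p, hQ₀le, hQ₀min, -⟩ := Unibranch.exists_guAt_of_isGeomUnibranch Q (Localization.AtPrime Q) hGU
  haveI := hQ₀p
  have hbir := exists_mul_eq_tmul (T := T) p (exists_birational R p)
  have hnz : ∀ s : R, s ∉ p → (algebraMap R N s : FractionRing (R ⧸ p)) ≠ 0 := fun s hs h => hs
    (Ideal.Quotient.eq_zero_iff_mem.1 (IsFractionRing.injective (R ⧸ p) (FractionRing (R ⧸ p))
      (show algebraMap (R ⧸ p) (FractionRing (R ⧸ p)) (Ideal.Quotient.mk p s) = algebraMap _ _ 0 by rw [map_zero]; exact h)))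
  -- the component map attached to a prime over `p`
  have hcomp : ∀ (P : Ideal T) [P.IsPrime] (hP : P.comap (algebraMap R T) = p), ∃ ψ : M →+* nrm T P,
      (∀ t, ψ (t ⊗ₜ 1) = nrmMap T P t) ∧ (∀ x, ψ (1 ⊗ₜ x) = nmap p P hP x) ∧
      (∀ z, ψ z = 0 → ∃ (s : R) (c : T), s ∉ p ∧ c ∈ P ∧ s • z = c ⊗ₜ[R] 1) := by
    intro P _ hP
    letI : Algebra R (nrm T P) := ((nrmMap T P).comp (algebraMap R T)).toAlgebra
    let f₁ : T →ₐ[R] nrm T P := { nrmMap T P with commutes' := fun _ => rfl }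
    let f₂ : N →ₐ[R] nrm T P :=
      { nmap p P hP with commutes' := fun a => RingHom.congr_fun (nmap_comp p P hP) a }
    let ψ := Algebra.TensorProduct.lift f₁ f₂ fun _ _ => Commute.all _ _
    refine ⟨ψ.toRingHom, fun t => ?_, fun x => ?_, fun z hz => ?_⟩
    · change ψ (t ⊗ₜ 1) = _
      rw [Algebra.TensorProduct.lift_tmul, map_one, mul_one]; rfl
    · change ψ (1 ⊗ₜ x) = _
      rw [Algebra.TensorProduct.lift_tmul, map_one, one_mul]; rfl
    obtain ⟨s, c, hs, hsz⟩ := hbir z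
    refine ⟨s, c, hs, ?_, hsz⟩
    have h1 : ψ (c ⊗ₜ[R] 1) = 0 := by
      rw [← hsz, map_smul, show ψ z = 0 from hz, smul_zero]
    rw [← ker_nrmMap T P, RingHom.mem_ker, ← h1]
    rw [Algebra.TensorProduct.lift_tmul, map_one, mul_one]; rfl
  have hker : ∀ (P : Ideal T) [P.IsPrime] (hP : P.comap (algebraMap R T) = p) (ψ : M →+* nrm T P),
      (∀ t, ψ (t ⊗ₜ 1) = nrmMap T P t) → ∀ s : R, s ∉ p → ∀ z, ψ (s • z) = 0 → ψ z = 0 := by
    intro P _ hP ψ hψ s hs z hz
    rw [Algebra.smul_def, map_mul] at hz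
    refine (mul_eq_zero.1 hz).resolve_left fun h => hs ?_
    rw [← hP, Ideal.mem_comap, ← ker_nrmMap T P, RingHom.mem_ker, ← hψ]
    exact h
  have hQ₀R : ∀ s : R, s ∉ p → algebraMap R M s ∉ Q₀ := by
    letI : Algebra N M := Algebra.TensorProduct.rightAlgebra
    haveI : Module.Flat N M := by
      refine Module.Flat.of_linearEquiv (M := N ⊗[R] T) (LinearEquiv.symm ?_)
      exact
        { (Algebra.TensorProduct.comm R N T).toLinearEquiv.toAddEquiv with
          map_smul' := fun n z => by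
            change (Algebra.TensorProduct.comm R N T) (n • z) =
              ((Algebra.TensorProduct.includeRight : N →ₐ[R] M) n) * (Algebra.TensorProduct.comm R N T) z
            rw [Algebra.smul_def, map_mul]
            rfl }
    have hmin : Q₀ ∈ minimalPrimes M := ⟨⟨hQ₀p, bot_le⟩, fun J hJ hle => hQ₀min J hJ.1 (hle.trans hQ₀le)⟩
    have h2 := Hensel.comap_mem_minimalPrimes_of_flat (R := N) hmin
    rw [IsDomain.minimalPrimes_eq_singleton_bot, Set.mem_singleton_iff] at h2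
    intro s hs h
    have h3 : algebraMap R N s ∈ Q₀.comap (algebraMap N M) := by
      rw [Ideal.mem_comap]
      have : algebraMap N M (algebraMap R N s) = algebraMap R M s :=
        (Algebra.TensorProduct.includeRight : N →ₐ[R] M).commutes s
      rwa [this]
    rw [h2, Ideal.mem_bot] at h3
    exact hnz s hs (congrArg Subtype.val h3)
  -- the prime of the component
  let φ : T →+* M := algebraMap T M
  let P₀ := Q₀.comap φ
  haveI hP₀p : P₀.IsPrime := Ideal.IsPrime.comap _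
  have hP₀R : P₀.comap (algebraMap R T) = p := by
    refine le_antisymm (fun s hs => by_contra fun h => hQ₀R s h ?_) (hp.2 ⟨Ideal.IsPrime.comap _, bot_le⟩ ?_)
    · rw [IsScalarTower.algebraMap_apply R T M]; exact hs
    · intro s hs
      by_contra h
      exact hQ₀R s h (by rw [IsScalarTower.algebraMap_apply R T M]; exact hs)
  have hkerψ : ∀ (P : Ideal T) [P.IsPrime] (hP : P.comap (algebraMap R T) = p), P ≤ P₀ → ∀ ψ : M →+* nrm T P,
      (∀ t, ψ (t ⊗ₜ 1) = nrmMap T P t) →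
      (∀ z, ψ z = 0 → ∃ (s : R) (c : T), s ∉ p ∧ c ∈ P ∧ s • z = c ⊗ₜ[R] 1) → RingHom.ker ψ = Q₀ := by
    intro P _ hP hle ψ _ h3
    haveI : (RingHom.ker ψ).IsPrime := RingHom.ker_isPrime _
    have hle' : RingHom.ker ψ ≤ Q₀ := fun z hz => by
      obtain ⟨s, c, hs, hc, hsz⟩ := h3 z hz
      have h4 : algebraMap R M s * z ∈ Q₀ := by
        rw [← Algebra.smul_def, hsz]
        exact hle hc
      exact (hQ₀p.mem_or_mem h4).resolve_left (hQ₀R s hs)
    exact le_antisymm hle' (hQ₀min _ inferInstance (hle'.trans hQ₀le))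
  have hP₀min : P₀ ∈ minimalPrimes T := by
    refine ⟨⟨hP₀p, bot_le⟩, fun J hJ hle => ?_⟩
    haveI := hJ.1
    have hJR : J.comap (algebraMap R T) = p :=
      le_antisymm (hP₀R ▸ Ideal.comap_mono hle) (hp.2 ⟨Ideal.IsPrime.comap _, bot_le⟩ (hP₀R ▸ Ideal.comap_mono hle))
    obtain ⟨ψ, h1, -, h3⟩ := hcomp J hJR
    intro t ht
    rw [← ker_nrmMap T J, RingHom.mem_ker, ← h1, ← RingHom.mem_ker, hkerψ J hJR hle ψ h1 h3]
    exact ht
  obtain ⟨ψ, hψT, hψN, hψ0⟩ := hcomp P₀ hP₀R
  have hψk := hkerψ P₀ hP₀R le_rfl ψ hψT hψ0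
  refine ⟨⟨P₀, hP₀min⟩, hP₀R, ?_, ?_⟩
  · -- uniqueness of the component
    rintro ⟨P, hPmin⟩ hP ⟨σ', hσT, hσN⟩
    haveI := hPmin.1.1
    obtain ⟨ψ', h1, h2, h3⟩ := hcomp P hP
    have hS : σ'.comp ψ' = Θ.toRingHom := ringHom_ext_tmul _ _
      (fun t => (congrArg σ' (h1 t)).trans ((RingHom.congr_fun hσT t).trans (hΘT t).symm))
      (fun x => (congrArg σ' (h2 x)).trans ((RingHom.congr_fun hσN x).trans (hΘN x).symm))
    haveI : (RingHom.ker ψ').IsPrime := RingHom.ker_isPrime _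
    have hle : RingHom.ker ψ' ≤ Q := fun z hz => by
      change Θ.toRingHom z = 0
      rw [← hS, RingHom.comp_apply, show ψ' z = 0 from hz, map_zero]
    have hle₀ : P₀ ≤ P := fun t ht => by
      have h4 : φ t ∈ RingHom.ker ψ' := hQ₀min _ inferInstance hle ht
      rw [← ker_nrmMap T P, RingHom.mem_ker, ← h1]
      exact h4
    exact Subtype.ext (le_antisymm (hPmin.2 ⟨hP₀p, bot_le⟩ hle₀) hle₀)
  · -- lifts on the component
    change ∃! σ' : nrm T P₀ →+* Ω, _
    let D := M ⧸ Q₀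
    let F := FractionRing (T ⧸ P₀)
    let ι : nrm T P₀ →+* F := (integralClosure (T ⧸ P₀) F).val.toRingHom
    let χ : D →+* F := ι.comp (Ideal.Quotient.lift Q₀ ψ fun z hz => hψk.ge hz)
    have hχ : Function.Injective χ := (Subtype.val_injective (p := fun y => y ∈ integralClosure (T ⧸ P₀) F)).comp
      (RingHom.lift_injective_of_ker_le_ideal _ _ hψk.le)
    letI : Algebra D F := χ.toAlgebra
    haveI : FaithfulSMul D F := (faithfulSMul_iff_algebraMap_injective _ _).2 hχ
    have hχT : ∀ t, algebraMap D F (Ideal.Quotient.mk Q₀ (φ t)) = algebraMap (T ⧸ P₀) F (Ideal.Quotient.mk P₀ t) :=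
      fun t => congrArg ι (hψT t)
    haveI : IsFractionRing D F := IsFractionRing.of_field D F fun w => by
      obtain ⟨x, y, -, rfl⟩ := IsFractionRing.div_surjective (A := T ⧸ P₀) w
      obtain ⟨x, rfl⟩ := Ideal.Quotient.mk_surjective x
      obtain ⟨y, rfl⟩ := Ideal.Quotient.mk_surjective y
      exact ⟨Ideal.Quotient.mk Q₀ (φ x), Ideal.Quotient.mk Q₀ (φ y), by rw [hχT, hχT]⟩
    haveI hQbar : (Q.map (Ideal.Quotient.mk Q₀)).IsPrime :=
      Ideal.map_isPrime_of_surjective Ideal.Quotient.mk_surjective (by rwa [Ideal.mk_ker])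
    set Qb := Q.map (Ideal.Quotient.mk Q₀) with hQb
    have hQbc : Qb.comap (Ideal.Quotient.mk Q₀) = Q := by
      rw [hQb, Ideal.comap_map_of_surjective _ Ideal.Quotient.mk_surjective, ← RingHom.ker_eq_comap_bot,
        Ideal.mk_ker, sup_eq_left.2 hQ₀le]
    have hrad : Unibranch.RadOver D (integralClosure D F) Qb :=
      (UnibranchEtale.isGeomUnibranch_iff_radOver D F Qb).1
        ((UnibranchEtale.isGeomUnibranch_iff_quotient Q Q₀ hQ₀le hQ₀min Qb hQbc).1 hGU)
    let ΘD : D →+* Ω := Ideal.Quotient.lift Q₀ Θ.toRingHom fun z hz => hQ₀le hz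
    have hΘD : RingHom.ker ΘD = Qb := by
      refine Ideal.comap_injective_of_surjective _ Ideal.Quotient.mk_surjective ?_
      rw [RingHom.comap_ker, hQbc]
      rfl
    -- the normalisation of the component and of the image of `M`
    let θ : T ⧸ P₀ →+* D := Ideal.quotientMap Q₀ φ le_rfl
    have hθ : (algebraMap D F).comp θ = algebraMap (T ⧸ P₀) F := Ideal.Quotient.ringHom_ext (RingHom.ext hχT)
    let g : nrm T P₀ →+* integralClosure D F := ι.codRestrict (integralClosure D F).toSubring fun y => by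
      obtain ⟨f, hf, hf0⟩ := y.2
      refine ⟨f.map θ, hf.map _, ?_⟩
      rw [Polynomial.eval₂_map, hθ]
      exact hf0
    haveI : Algebra.IsIntegral T M := inferInstance
    have hθi : θ.IsIntegral := fun d => by
      obtain ⟨z, rfl⟩ := Ideal.Quotient.mk_surjective d
      obtain ⟨f, hf, hf0⟩ := Algebra.IsIntegral.isIntegral (R := T) z
      refine ⟨f.map (Ideal.Quotient.mk P₀), hf.map _, ?_⟩
      rw [Polynomial.eval₂_map, show θ.comp (Ideal.Quotient.mk P₀) = (Ideal.Quotient.mk Q₀).comp φ from rfl,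
        ← Polynomial.hom_eval₂, hf0, map_zero]
    have hgs : Function.Surjective g := fun y => by
      letI := θ.toAlgebra
      haveI : IsScalarTower (T ⧸ P₀) D F := IsScalarTower.of_algebraMap_eq' hθ.symm
      haveI : Algebra.IsIntegral (T ⧸ P₀) D := algebraMap_isIntegral_iff.1 hθi
      exact ⟨⟨y.1, isIntegral_trans (A := D) y.1 y.2⟩, Subtype.ext rfl⟩
    have hgψ : ∀ z, g (ψ z) = algebraMap D (integralClosure D F) (Ideal.Quotient.mk Q₀ z) := fun z => Subtype.ext rfl
    obtain ⟨σ₁, hσ₁⟩ := (nonempty_hom (algebraMap D (integralClosure D F))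
      (algebraMap_isIntegral_iff.2 inferInstance) ΘD (by
        exact fun a ha => by
          have : a = 0 := hχ ((congrArg Subtype.val (RingHom.mem_ker.1 ha)).trans (map_zero χ).symm)
          rw [this]; exact zero_mem _)).some
    have hψS : ∀ z, σ₁ (g (ψ z)) = Θ z := fun z => by
      rw [hgψ]; exact RingHom.congr_fun hσ₁ _
    refine ⟨σ₁.comp g, ⟨RingHom.ext fun t => ?_, RingHom.ext fun x => ?_⟩, ?_⟩
    · rw [RingHom.comp_apply, RingHom.comp_apply, ← hψT, hψS, hΘT]
    · rw [RingHom.comp_apply, RingHom.comp_apply, ← hψN, hψS, hΘN]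
    · rintro σ' ⟨hσT, hσN⟩
      have hginj : Function.Injective g := fun a b h => Subtype.ext (congrArg (fun z : integralClosure D F => (z : F)) h :)
      let e := RingEquiv.ofBijective g ⟨hginj, hgs⟩
      have hσ'ψ : ∀ z, σ' (ψ z) = Θ z := RingHom.congr_fun (ringHom_ext_tmul (σ'.comp ψ) Θ.toRingHom
        (fun t => (congrArg σ' (hψT t)).trans ((RingHom.congr_fun hσT t).trans (hΘT t).symm))
        (fun x => (congrArg σ' (hψN x)).trans ((RingHom.congr_fun hσN x).trans (hΘN x).symm)))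
      have h := eq_of_radOver Qb hrad (σ'.comp e.symm.toRingHom) σ₁ (by
        rw [hσ₁]
        refine RingHom.ext fun d => ?_
        obtain ⟨z, rfl⟩ := Ideal.Quotient.mk_surjective d
        rw [RingHom.comp_apply, ← hgψ, RingHom.comp_apply]
        change σ' (e.symm (e (ψ z))) = _
        rw [RingEquiv.symm_apply_apply, hσ'ψ]
        rfl) (by
        rw [show (σ'.comp e.symm.toRingHom).comp (algebraMap D (integralClosure D F)) = ΘD from ?_, hΘD]
        refine RingHom.ext fun d => ?_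
        obtain ⟨z, rfl⟩ := Ideal.Quotient.mk_surjective d
        rw [RingHom.comp_apply, ← hgψ, RingHom.comp_apply]
        change σ' (e.symm (e (ψ z))) = _
        rw [RingEquiv.symm_apply_apply, hσ'ψ]
        rfl)
      rw [← h]
      refine RingHom.ext fun y => ?_
      change σ' y = σ' (e.symm (e y))
      rw [RingEquiv.symm_apply_apply]

/-- The number of geometric branches is unchanged. -/
theorem numGeomBranches_eq
    (H : ∀ p ∈ minimalPrimes R, ∀ (Q : Ideal (T ⊗[R] nrm R p)) [Q.IsMaximal],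
      CAlg2.IsGeomUnibranch (Localization.AtPrime Q)) :
    Brnch.numGeomBranches T = Brnch.numGeomBranches R := by
  let Ω := AlgebraicClosure (ResidueField T)
  let τ : T →+* Ω := (algebraMap (ResidueField T) Ω).comp (residue T)
  have hτ : RingHom.ker τ = maximalIdeal T := by
    rw [RingHom.ker_comp_of_injective _ (RingHom.injective _), ker_residue]
  have hτR : RingHom.ker (τ.comp (algebraMap R T)) = maximalIdeal R := by
    rw [← RingHom.comap_ker, hτ, maximalIdeal_comap (algebraMap R T)]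
  rw [numGeomBranches_eq_card_pts T τ hτ, numGeomBranches_eq_card_pts R _ hτR]
  have hmin : ∀ P : minimalPrimes T, P.1.comap (algebraMap R T) ∈ minimalPrimes R :=
    fun P => Hensel.comap_mem_minimalPrimes_of_flat P.2
  let F : pts T τ → pts R (τ.comp (algebraMap R T)) := fun s =>
    haveI := s.1.2.1.1
    haveI := (hmin s.1).1.1
    ⟨⟨_, hmin s.1⟩, s.2.1.comp (nmap _ s.1.1 rfl), by rw [RingHom.comp_assoc, nmap_comp, ← RingHom.comp_assoc, s.2.2]⟩
  refine ENat.card_congr (Equiv.ofBijective F ⟨?_, ?_⟩)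
  · rintro ⟨⟨P₁, h₁⟩, σ₁, hσ₁⟩ ⟨⟨P₂, h₂⟩, σ₂, hσ₂⟩ hF
    haveI := h₁.1.1
    haveI := h₂.1.1
    haveI := (hmin ⟨P₁, h₁⟩).1.1
    have hpe : P₁.comap (algebraMap R T) = P₂.comap (algebraMap R T) := congrArg (fun s => s.1.1) hF
    obtain ⟨P, hP, huniqP, σ₀, -, huniq⟩ := existsUnique_lift R T τ hτ (P₁.comap (algebraMap R T)) (hmin ⟨P₁, h₁⟩)
      (H _ (hmin ⟨P₁, h₁⟩)) (σ₁.comp (nmap _ P₁ rfl)) (by rw [RingHom.comp_assoc, nmap_comp, ← RingHom.comp_assoc, hσ₁])
    have key : ∀ (q : Ideal R) [q.IsPrime] (e : P₂.comap (algebraMap R T) = q) (σ : nrm R q →+* Ω)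
        (hσ : σ.comp (nrmMap R q) = τ.comp (algebraMap R T)) (hq : q ∈ minimalPrimes R),
        (F ⟨⟨P₂, h₂⟩, σ₂, hσ₂⟩ = ⟨⟨q, hq⟩, σ, hσ⟩) → σ₂.comp (nmap q P₂ e) = σ := by
      rintro q _ rfl σ hσ hq h
      cases h
      rfl
    have k2 := key _ hpe.symm _ (by rw [RingHom.comp_assoc, nmap_comp, ← RingHom.comp_assoc, hσ₁]) (hmin ⟨P₁, h₁⟩) hF.symm
    obtain rfl : (⟨P₁, h₁⟩ : minimalPrimes T) = P := huniqP ⟨P₁, h₁⟩ rfl ⟨σ₁, hσ₁, rfl⟩
    obtain rfl : P₂ = P₁ := congrArg Subtype.val (huniqP ⟨P₂, h₂⟩ hpe.symm ⟨σ₂, hσ₂, k2⟩)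
    obtain rfl : σ₂ = σ₁ := (huniq σ₂ ⟨hσ₂, k2⟩).trans (huniq σ₁ ⟨hσ₁, rfl⟩).symm
    rfl
  · rintro ⟨⟨p, hp⟩, σ, hσ⟩
    haveI := hp.1.1
    obtain ⟨⟨P, hPm⟩, hP, -, σ₀, ⟨h₁, h₂⟩, -⟩ := existsUnique_lift R T τ hτ p hp (H p hp) σ hσ
    refine ⟨⟨⟨P, hPm⟩, σ₀, h₁⟩, ?_⟩
    subst hP
    cases h₂
    rfl

end Groth.Agent.GUField
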